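import Groth.Agent.AssLib.FlatFibre
import Mathlib.RingTheory.Flat.TorsionFree
import Mathlib.RingTheory.DiscreteValuationRing.Basic
import Mathlib.AlgebraicGeometry.Fiber

/-! # Flat completion over a discrete valuation ring -/

universe u

open CategoryTheory CategoryTheory.Limits AlgebraicGeometry

namespace Groth.Agent.FlatComplDvr5

variable {A : Type u} [CommRing A] [IsDomain A] [IsDiscreteValuationRing A] {π : A} (hπ : Irreducible π)
  {X : Scheme.{u}} (f : X ⟶ Spec (CommRingCat.of A))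

/-- The uniformizer as a function on `X`. -/
noncomputable def fun' (U : X.Opens) : Γ(X, U) :=
  f.appLE ⊤ U le_top ((Scheme.ΓSpecIso (CommRingCat.of A)).inv π)

include hπ in
theorem flat_of_regular (g : X ⟶ Spec (CommRingCat.of A))
    (h : ∀ x : X, ∃ U : X.Opens, x ∈ U ∧ IsAffineOpen U ∧
      ∀ s : Γ(X, U), fun' (π := π) g U * s = 0 → s = 0) : Flat g := by
  choose U hxU hU hreg using h
  rw [IsZariskiLocalAtSource.iff_of_iSup_eq_top (P := @Flat) U
    (top_le_iff.1 fun x _ => TopologicalSpace.Opens.mem_iSup.2 ⟨x, hxU x⟩)]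
  intro x
  haveI : IsAffine (U x : Scheme.{u}) := hU x
  rw [HasRingHomProperty.iff_of_isAffine (P := @Flat)]
  let B := Γ((U x : Scheme.{u}), ⊤)
  letI : Algebra A B := (((U x).ι ≫ g).appTop.hom.comp (Scheme.ΓSpecIso (CommRingCat.of A)).inv.hom).toAlgebra
  have hflat : Module.Flat A B := by
    rw [IsDedekindDomain.flat_iff_torsion_eq_bot, eq_bot_iff]
    rintro b ⟨⟨a, ha⟩, hab⟩
    obtain ⟨n, u, rfl⟩ := IsDiscreteValuationRing.eq_unit_mul_pow_irreducible (nonZeroDivisors.ne_zero ha) hπ
    change algebraMap A B _ * b = 0 at hab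
    rw [map_mul, mul_assoc] at hab
    replace hab := (u.isUnit.map (algebraMap A B)).mul_right_eq_zero.1 hab
    have hr : ∀ c : B, algebraMap A B π * c = 0 → c = 0 := fun c hc => by
      have hb := ConcreteCategory.bijective_of_isIso (U x).topIso.hom
      have he : (U x).topIso.hom (algebraMap A B π) = fun' (π := π) g (U x) := by
        show (((U x).ι ≫ g).appTop ≫ (U x).topIso.hom) ((Scheme.ΓSpecIso (CommRingCat.of A)).inv π) = _
        congr 1
        rw [Scheme.Hom.appTop, Scheme.Hom.comp_app, Scheme.Hom.appLE]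
        erw [Category.assoc]
        congr 2
        rw [Scheme.Opens.ι_app, Scheme.Opens.topIso_hom]
        erw [← Functor.map_comp]
        rfl
      refine hb.1 ((hreg x _ ?_).trans (map_zero _).symm)
      rw [← he, ← map_mul, hc, map_zero]
    clear ha
    induction n generalizing b with
    | zero => simpa using hab
    | succ n ih =>
      rw [pow_succ, map_mul, mul_assoc] at hab
      exact hr b (ih hab)
  have h2 : ((U x).ι ≫ g).appTop.hom = (algebraMap A B).comp (Scheme.ΓSpecIso (CommRingCat.of A)).hom.hom := by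
    rw [RingHom.algebraMap_toAlgebra, RingHom.comp_assoc, ← CommRingCat.hom_comp, Iso.hom_inv_id]
    rfl
  rw [h2]
  exact RingHom.Flat.comp (RingHom.Flat.of_bijective
    (ConcreteCategory.bijective_of_isIso (Scheme.ΓSpecIso (CommRingCat.of A)).hom))
    (RingHom.flat_algebraMap_iff.2 hflat)

theorem fun'_res {U V : X.Opens} (h : V ≤ U) :
    X.presheaf.map (homOfLE h).op (fun' (π := π) f U) = fun' (π := π) f V := by
  simp only [fun', ← CommRingCat.comp_apply, Scheme.Hom.appLE_map]

theorem fun'_comp {Z : Scheme.{u}} (i : Z ⟶ X) (U : X.Opens) :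
    i.app U (fun' (π := π) f U) = fun' (π := π) (i ≫ f) (i ⁻¹ᵁ U) := by
  simp only [fun', ← CommRingCat.comp_apply, Scheme.Hom.app_eq_appLE, Scheme.Hom.appLE_comp_appLE]

include hπ in
/-- The kernel of the generic fibre on an affine open is the torsion. -/
theorem mem_ker_iff (η : ↥(Spec (CommRingCat.of A))) (hη : η.asIdeal = ⊥) (U : X.affineOpens) (s : Γ(X, U.1)) :
    s ∈ (f.fiberι η).ker.ideal U ↔ ∃ n : ℕ, fun' (π := π) f U.1 ^ n * s = 0 := by
  let a : Γ(Spec (CommRingCat.of A), ⊤) := (Scheme.ΓSpecIso (CommRingCat.of A)).inv π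
  have hη' : ((Spec (CommRingCat.of A)).basicOpen a : Set ↥(Spec (CommRingCat.of A))) = {η} := by
    rw [basicOpen_eq_of_affine]
    ext P
    refine ⟨fun hP => PrimeSpectrum.ext ?_, fun hP => ?_⟩
    · rw [hη]
      by_contra hne
      haveI : P.asIdeal.IsMaximal := IsPrime.to_maximal_ideal hne
      apply (hP : π ∉ P.asIdeal)
      rw [IsLocalRing.eq_maximalIdeal ‹P.asIdeal.IsMaximal›]
      exact (IsDiscreteValuationRing.irreducible_iff_uniformizer π).1 hπ ▸ Ideal.mem_span_singleton_self π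
    · obtain rfl : P = η := hP
      show π ∉ P.asIdeal
      rw [hη, Ideal.mem_bot]
      exact hπ.ne_zero
  haveI : Flat ((Spec (CommRingCat.of A)).fromSpecResidueField η) := by
    obtain rfl : η = genericPoint ↥(Spec (CommRingCat.of A)) := by
      apply PrimeSpectrum.ext
      rw [hη, genericPoint_eq_bot_of_affine]
      rfl
    exact AssLib.flat_fromSpecResidueField_genericPoint _
  haveI : IsOpenImmersion ((Spec (CommRingCat.of A)).fromSpecResidueField η) := by
    let q := (Spec (CommRingCat.of A)).fromSpecResidueField η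
    haveI : ∀ z, IsIso (q.stalkMap z) := fun z =>
      (ConcreteCategory.isIso_iff_bijective (q.stalkMap z)).2 (AssLib.bijective_stalkMap q z)
    refine IsOpenImmersion.of_isIso_stalkMap q ⟨q.isEmbedding, ?_⟩
    rw [Scheme.range_fromSpecResidueField, ← hη']
    exact ((Spec (CommRingCat.of A)).basicOpen a).isOpen
  let j := f.fiberι η
  haveI : IsOpenImmersion j := MorphismProperty.pullback_fst _ _ inferInstance
  haveI : QuasiCompact j := MorphismProperty.pullback_fst _ _ inferInstance
  have hr : (U.1 ⊓ j.opensRange : X.Opens) = X.basicOpen (fun' (π := π) f U.1) := by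
    rw [fun', Scheme.basicOpen_appLE]
    refine TopologicalSpace.Opens.ext ?_
    show (U.1 : Set X) ∩ Set.range j.base = (U.1 : Set X) ∩ f.base ⁻¹' ((Spec (CommRingCat.of A)).basicOpen a : Set _)
    rw [hη']
    exact congrArg _ (f.range_fiberι η)
  rw [Scheme.Hom.ker_apply, RingHom.mem_ker]
  have hiff : j.app U.1 s = 0 ↔ X.presheaf.map (homOfLE (inf_le_left : U.1 ⊓ j.opensRange ≤ U.1)).op s = 0 := by
    have h1 : j.app U.1 = X.presheaf.map (homOfLE ((j.image_preimage_le U.1) :
        j ''ᵁ j ⁻¹ᵁ U.1 ≤ U.1)).op ≫ (j.appIso (j ⁻¹ᵁ U.1)).hom := by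
      rw [Scheme.Hom.appIso_hom', Scheme.Hom.map_appLE, Scheme.Hom.app_eq_appLE]
    rw [h1, CommRingCat.comp_apply, map_eq_zero_iff _ (ConcreteCategory.bijective_of_isIso (j.appIso _).hom).1]
    have h2 : ∀ (W : X.Opens) (hW : W = U.1 ⊓ j.opensRange) (hle : W ≤ U.1),
        X.presheaf.map (homOfLE hle).op s = 0 ↔
          X.presheaf.map (homOfLE (inf_le_left : U.1 ⊓ j.opensRange ≤ U.1)).op s = 0 := by
      rintro W rfl hle; rfl
    exact h2 _ (by rw [j.image_preimage_eq_opensRange_inf, inf_comm]) _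
  rw [hiff]
  haveI := U.2.isLocalization_basicOpen (fun' (π := π) f U.1)
  have h2 : ∀ (W : X.Opens) (hW : W = X.basicOpen (fun' (π := π) f U.1)) (hle : W ≤ U.1),
      X.presheaf.map (homOfLE hle).op s = 0 ↔ algebraMap Γ(X, U.1) Γ(X, X.basicOpen (fun' (π := π) f U.1)) s = 0 := by
    rintro W rfl hle; rfl
  rw [h2 _ hr, IsLocalization.map_eq_zero_iff (Submonoid.powers (fun' (π := π) f U.1))]
  exact ⟨fun ⟨⟨_, n, rfl⟩, h⟩ => ⟨n, h⟩, fun ⟨n, h⟩ => ⟨⟨_, n, rfl⟩, h⟩⟩

end Groth.Agent.FlatComplDvr5
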